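import Groth.Prelude.Def_StCoarse
import Groth.Prelude.Def_StGerb
import Groth.Agent.AlgSpLoc.LocSurj
import Groth.Agent.Fib.Basic
import Groth.Agent.Fib.Yoneda
import Mathlib.AlgebraicGeometry.AlgClosed.Basic

/-!
# Gerbes and coarse moduli spaces
-/

set_option autoImplicit false
set_option backward.isDefEq.respectTransparency false
set_option backward.isDefEq.respectTransparency.types false

universe v₂ u₂ v₁ u₁ u

open CategoryTheory CategoryTheory.Limits AlgebraicGeometry Opposite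

namespace Groth.Agent.GerbCoarse

noncomputable section

variable {S : Scheme.{u}} {𝒳 : BasedCategory.{v₁, u₁} (Over S)}
  {𝒴 : BasedCategory.{v₂, u₂} (Over S)} {M : AlgSp.Sp S}

/-- Covering sieves of the spectrum of an algebraically closed field are trivial. -/
theorem arrows_id {Ω : Type u} [Field Ω] [IsAlgClosed Ω] {t : Spec (CommRingCat.of Ω) ⟶ S}
    {R : Sieve (Over.mk t : Over S)} (hR : R ∈ QuotSh.J Scheme.fppfPrecoverage S (Over.mk t)) :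
    R.arrows (𝟙 _) := by
  obtain ⟨κ, U, v, hv, -, hlfp, hsurj⟩ := AlgSpLoc.exists_fppf_of_mem_J hR
  obtain ⟨i, z, -⟩ := hsurj (IsLocalRing.closedPoint Ω)
  let k : (U i).left ⟶ Spec (CommRingCat.of Ω) := (v i).left
  haveI : LocallyOfFinitePresentation k := hlfp i
  haveI : JacobsonSpace ↥(U i).left := LocallyOfFiniteType.jacobsonSpace k
  obtain ⟨x, -, hx⟩ := nonempty_inter_closedPoints (X := ↥(U i).left) (Z := Set.univ) ⟨z, trivial⟩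
    isClosed_univ.isLocallyClosed
  let p : Spec (CommRingCat.of Ω) ⟶ (U i).left := pointOfClosedPoint k x hx
  have hp : p ≫ (v i).left = 𝟙 _ := pointOfClosedPoint_comp k x hx
  let σ : Over.mk t ⟶ U i := Over.homMk p (by
    rw [← Over.w (v i), ← Category.assoc, hp]
    exact Category.id_comp _)
  have h := R.downward_closed (hv i) σ
  rwa [show σ ≫ v i = 𝟙 _ from Over.OverMorphism.ext hp] at h

/-- Objects over the spectrum of an algebraically closed field come from a gerbe over the target. -/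
theorem exists_obj {F : 𝒳 ⥤ᵇ 𝒴} (hF : Gerb.LocSurjObj (QuotSh.J Scheme.fppfPrecoverage S) F)
    {Ω : Type u} [Field Ω] [IsAlgClosed Ω] {t : Spec (CommRingCat.of Ω) ⟶ S}
    (y : 𝒴.p.Fiber (Over.mk t)) :
    ∃ (x : 𝒳.p.Fiber (Over.mk t)) (g : F.obj x.1 ⟶ y.1), 𝒴.p.IsHomLift (𝟙 (Over.mk t)) g := by
  obtain ⟨R, hR, hR'⟩ := hF y.1
  have key : ∀ (T : Over S) (R : Sieve T), T = Over.mk t →
      R ∈ QuotSh.J Scheme.fppfPrecoverage S T → R.arrows (𝟙 T) := by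
    rintro T R rfl hR
    exact arrows_id hR
  obtain ⟨x, g, hg⟩ := hR' (𝟙 _) (key _ R y.2 hR)
  have h1 : 𝒳.p.obj x = Over.mk t :=
    ((F.w_obj x).symm.trans (IsHomLift.domain_eq 𝒴.p (𝟙 (𝒴.p.obj y.1)) g)).trans y.2
  have key' : ∀ (T : Over S), T = Over.mk t → 𝒴.p.IsHomLift (𝟙 T) g →
      𝒴.p.IsHomLift (𝟙 (Over.mk t)) g := by
    rintro T rfl h
    exact h
  exact ⟨⟨x, h1⟩, g, key' _ y.2 hg⟩

/-- Morphisms of images over the spectrum of an algebraically closed field lift along a gerbe. -/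
theorem nonempty_iso {F : 𝒳 ⥤ᵇ 𝒴} (h𝒳 : FibCat.IsFibGrpd 𝒳.p)
    (hF : Gerb.LocSurjHom (QuotSh.J Scheme.fppfPrecoverage S) F)
    {Ω : Type u} [Field Ω] [IsAlgClosed Ω] {t : Spec (CommRingCat.of Ω) ⟶ S}
    (x x' : 𝒳.p.Fiber (Over.mk t)) (b : F.obj x.1 ⟶ F.obj x'.1)
    (hb : 𝒴.p.IsHomLift (𝟙 (Over.mk t)) b) : Nonempty (x ≅ x') := by
  obtain ⟨x, hx⟩ := x
  obtain ⟨x', hx'⟩ := x'
  have hb' : 𝒴.p.IsHomLift (𝟙 (𝒳.p.obj x)) b := by rw [hx]; exact hb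
  obtain ⟨R, hR, hR'⟩ := hF x x' b hb'
  have key : ∀ (T : Over S) (R : Sieve T), T = Over.mk t →
      R ∈ QuotSh.J Scheme.fppfPrecoverage S T → R.arrows (𝟙 T) := by
    rintro T R rfl hR
    exact arrows_id hR
  obtain ⟨x₀, φ, ψ, hφ, hψ, -⟩ := hR' (𝟙 _) (key _ R hx hR)
  have key' : ∀ (T : Over S) {a c : 𝒳.obj} (g : a ⟶ c), T = Over.mk t → 𝒳.p.IsHomLift (𝟙 T) g →
      𝒳.p.IsHomLift (𝟙 (Over.mk t)) g := by
    rintro T a c g rfl h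
    exact h
  haveI := key' _ φ hx hφ
  haveI := key' _ ψ hx hψ
  haveI : IsIso φ := Fib.isIso_of_isHomLift 𝒳.p h𝒳 (𝟙 (Over.mk t)) φ
  haveI : IsIso ψ := Fib.isIso_of_isHomLift 𝒳.p h𝒳 (𝟙 (Over.mk t)) ψ
  let e : x ≅ x' := (asIso φ).symm ≪≫ asIso ψ
  haveI : 𝒳.p.IsHomLift (𝟙 (Over.mk t)) (asIso φ).hom := by assumption
  haveI : 𝒳.p.IsHomLift (𝟙 (Over.mk t)) (asIso φ).inv := inferInstance
  haveI : 𝒳.p.IsHomLift (𝟙 (Over.mk t)) (asIso ψ).hom := by assumption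
  haveI he : 𝒳.p.IsHomLift (𝟙 (Over.mk t)) e.hom := by
    have h : 𝒳.p.IsHomLift (𝟙 (Over.mk t) ≫ 𝟙 _) ((asIso φ).inv ≫ (asIso ψ).hom) := inferInstance
    simpa [e] using h
  haveI : 𝒳.p.IsHomLift (𝟙 (Over.mk t)) e.inv := inferInstance
  exact ⟨{ hom := ⟨e.hom, he⟩, inv := ⟨e.inv, ‹_›⟩, hom_inv_id := Subtype.ext e.hom_inv_id,
           inv_hom_id := Subtype.ext e.inv_hom_id }⟩

/-- Sections of objects linked by a morphism over the identity agree. -/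
theorem fibSec_eq (π : 𝒳 ⥤ᵇ AlgSt.ofSp M) (π' : 𝒴 ⥤ᵇ AlgSt.ofSp M) {T : Over S}
    (x : 𝒳.p.Fiber T) (y : 𝒴.p.Fiber T) (φ : π.obj x.1 ⟶ π'.obj y.1)
    (hφ : (AlgSt.ofSp M).p.IsHomLift (𝟙 T) φ) : AlgSt.fibSec π x = AlgSt.fibSec π' y := by
  have hb : φ.hom = eqToHom ((π.w_obj x.1).trans x.2) ≫ eqToHom ((π'.w_obj y.1).trans y.2).symm :=
    (@IsHomLift.fac' _ _ _ _ (AlgSt.ofSp M).p _ _ _ _ (𝟙 T) φ hφ).trans (by simp)
  unfold AlgSt.fibSec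
  rw [← φ.map_sec, hb]
  have key : ∀ {A B C : Over S} (f : B ⟶ A) (g : C ⟶ B) (k : C ⟶ A) (m : M.obj.obj (op A)),
      g ≫ f = k → M.obj.map g.op (M.obj.map f.op m) = M.obj.map k.op m := by
    rintro A B C f g k m rfl
    simp [op_comp, M.obj.map_comp]
  exact key _ _ _ _ (by rw [eqToHom_trans_assoc, eqToHom_refl, Category.id_comp])

theorem fibSec_congr {π π' : 𝒳 ⥤ᵇ AlgSt.ofSp M} (e : π ≅ π') {T : Over S} (x : 𝒳.p.Fiber T) :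
    AlgSt.fibSec π x = AlgSt.fibSec π' x := by
  refine fibSec_eq π π' x x (Fib.appIso e x.1).hom ?_
  obtain ⟨x, rfl⟩ := x
  exact Fib.appIso_isHomLift e x

theorem fibSec_comp (F : 𝒳 ⥤ᵇ 𝒴) (π : 𝒴 ⥤ᵇ AlgSt.ofSp M) {T : Over S} (x : 𝒳.p.Fiber T)
    (y : 𝒴.p.Fiber T) (g : F.obj x.1 ⟶ y.1) (hg : 𝒴.p.IsHomLift (𝟙 T) g) :
    AlgSt.fibSec (BasedFunctor.comp F π) x = AlgSt.fibSec π y :=
  fibSec_eq _ π x y (π.map g) (BasedFunctor.preserves_isHomLift π _ g)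

/-- The sections of an image agree. -/
theorem fibSec_map (F : 𝒳 ⥤ᵇ 𝒴) (π : 𝒴 ⥤ᵇ AlgSt.ofSp M) {T : Over S} (x : 𝒳.p.Fiber T) :
    AlgSt.fibSec (BasedFunctor.comp F π) x =
      AlgSt.fibSec π ⟨F.obj x.1, (F.w_obj x.1).trans x.2⟩ :=
  fibSec_comp F π x _ (𝟙 _) (IsHomLift.id ((F.w_obj x.1).trans x.2))

variable {F : 𝒳 ⥤ᵇ 𝒴} (h𝒳 : FibCat.IsFibGrpd 𝒳.p) (h𝒴 : FibCat.IsFibGrpd 𝒴.p)
  (hF : Gerb.IsGerbeOver (QuotSh.J Scheme.fppfPrecoverage S) F)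

include h𝒳 h𝒴 hF

theorem geomPtBij_comp (π : 𝒴 ⥤ᵇ AlgSt.ofSp M) (hπ : AlgSt.GeomPtBij π) :
    AlgSt.GeomPtBij (BasedFunctor.comp F π) := by
  intro Ω _ _ t
  refine ⟨fun m => ?_, fun x x' h => ?_⟩
  · obtain ⟨y, hy⟩ := (hπ Ω t).1 m
    obtain ⟨x, g, hg⟩ := exists_obj hF.1 y
    exact ⟨x, (fibSec_comp F π x y g hg).trans hy⟩
  · rw [fibSec_map, fibSec_map] at h
    obtain ⟨i⟩ := (hπ Ω t).2 _ _ h
    exact nonempty_iso h𝒳 hF.2 x x' i.hom.1 i.hom.2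

theorem geomPtBij_of_comp (π : 𝒴 ⥤ᵇ AlgSt.ofSp M) (hπ : AlgSt.GeomPtBij (BasedFunctor.comp F π)) :
    AlgSt.GeomPtBij π := by
  intro Ω _ _ t
  refine ⟨fun m => ?_, fun y y' h => ?_⟩
  · obtain ⟨x, hx⟩ := (hπ Ω t).1 m
    exact ⟨_, (fibSec_map F π x).symm.trans hx⟩
  · obtain ⟨x, g, hg⟩ := exists_obj hF.1 y
    obtain ⟨x', g', hg'⟩ := exists_obj hF.1 y'
    rw [← fibSec_comp F π x y g hg, ← fibSec_comp F π x' y' g' hg'] at h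
    obtain ⟨i⟩ := (hπ Ω t).2 _ _ h
    haveI := hg
    haveI := hg'
    haveI := i.hom.2
    haveI : IsIso g := Fib.isIso_of_isHomLift 𝒴.p h𝒴 (𝟙 (Over.mk t)) g
    haveI : IsIso g' := Fib.isIso_of_isHomLift 𝒴.p h𝒴 (𝟙 (Over.mk t)) g'
    let a : 𝒴.p.Fiber (Over.mk t) := ⟨F.obj x.1, (F.w_obj x.1).trans x.2⟩
    let a' : 𝒴.p.Fiber (Over.mk t) := ⟨F.obj x'.1, (F.w_obj x'.1).trans x'.2⟩
    let fg : a ⟶ y := ⟨g, hg⟩
    let fg' : a' ⟶ y' := ⟨g', hg'⟩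
    let fi : a ⟶ a' := ⟨F.map i.hom.1, BasedFunctor.preserves_isHomLift F _ _⟩
    haveI : ∀ {a b : 𝒴.p.Fiber (Over.mk t)} (f : a ⟶ b), IsIso f := fun f => by
      have := f.2
      have : IsIso f.1 := Fib.isIso_of_isHomLift 𝒴.p h𝒴 (𝟙 (Over.mk t)) f.1
      exact ⟨⟨inv f.1, inferInstance⟩, Subtype.ext (IsIso.hom_inv_id f.1),
        Subtype.ext (IsIso.inv_hom_id f.1)⟩
    exact ⟨(asIso fg).symm ≪≫ asIso fi ≪≫ asIso fg'⟩

end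

end Groth.Agent.GerbCoarse
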