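import Groth.Agent.GerbCoarse.Basic
import Groth.Prelude.Def_StGerb2
import Mathlib.CategoryTheory.Sites.LocallySurjective

/-!
# The space under a gerbe is the sheafification of the isomorphism classes
-/

set_option autoImplicit false
set_option backward.isDefEq.respectTransparency false
set_option backward.isDefEq.respectTransparency.types false

universe u

open CategoryTheory CategoryTheory.Limits AlgebraicGeometry Opposite

namespace Groth.Agent.GerbCoarse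

noncomputable section

variable {S : Scheme.{u}} {𝒳 : AlgSt.Cat S} {M : AlgSp.Sp S}

theorem map_sec {A B C : Over S} (f : B ⟶ A) (g : C ⟶ B) (k : C ⟶ A) (m : M.obj.obj (op A))
    (h : g ≫ f = k) : M.obj.map g.op (M.obj.map f.op m) = M.obj.map k.op m := by
  subst h
  simp [op_comp, M.obj.map_comp]

/-- Sections of objects linked by a morphism over `f`. -/
theorem fibSec_lift (π : 𝒳 ⥤ᵇ AlgSt.ofSp M) {V T : Over S} (f : V ⟶ T) (x : 𝒳.p.Fiber V)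
    (y : (AlgSt.ofSp M).obj) (hy : y.base = T) (φ : π.obj x.1 ⟶ y)
    (hφ : (AlgSt.ofSp M).p.IsHomLift f φ) :
    AlgSt.fibSec π x = M.obj.map f.op (M.obj.map (eqToHom hy.symm).op y.sec) := by
  have hb : φ.hom = eqToHom ((π.w_obj x.1).trans x.2) ≫ f ≫ eqToHom hy.symm :=
    (@IsHomLift.fac' _ _ _ _ (AlgSt.ofSp M).p _ _ _ _ f φ hφ).trans (by simp)
  unfold AlgSt.fibSec
  rw [map_sec _ _ _ _ rfl, ← φ.map_sec, hb]
  exact map_sec _ _ _ _ (by rw [eqToHom_trans_assoc, eqToHom_refl, Category.id_comp])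

theorem exists_isoClPsh (h𝒳 : FibCat.IsFibGrpd 𝒳.p) [FibCat.IsFibGrpd 𝒳.p] (π : 𝒳 ⥤ᵇ AlgSt.ofSp M)
    (hπ : Gerb.IsGerbeOver (QuotSh.J Scheme.fppfPrecoverage S) π) :
    ∃ c : Gerb.isoClPsh 𝒳 ⟶ M.obj,
      (∀ x : 𝒳.obj, c.app (op (𝒳.p.obj x)) (Quot.mk _ (Gerb.fib x)) =
          M.obj.map (eqToHom (π.w_obj x).symm).op (π.obj x).sec) ∧
      Presheaf.IsLocallySurjective (QuotSh.J Scheme.fppfPrecoverage S) c ∧
      Presheaf.IsLocallyInjective (QuotSh.J Scheme.fppfPrecoverage S) c := by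
  have hwd : ∀ (U : (Over S)ᵒᵖ) (a b : 𝒳.p.Fiber U.unop), Gerb.IsoRel 𝒳 U.unop a b →
      AlgSt.fibSec π a = AlgSt.fibSec π b := fun U a b ⟨φ⟩ =>
    fibSec_eq π π a b (π.map φ.1) (haveI := φ.2; BasedFunctor.preserves_isHomLift π _ φ.1)
  have hnat : ∀ {U V : Over S} (f : V ⟶ U) (a : 𝒳.p.Fiber U),
      AlgSt.fibSec π (Gerb.pullFib 𝒳 f a) = M.obj.map f.op (AlgSt.fibSec π a) := by
    rintro U V f ⟨x, rfl⟩
    haveI h := Gerb.pullHom_isHomLift 𝒳 x (f ≫ eqToHom rfl)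
    exact (fibSec_lift π f (Gerb.pullFib 𝒳 f ⟨x, rfl⟩) (π.obj x) (π.w_obj x)
      (π.map (Gerb.pullHom 𝒳 x (f ≫ eqToHom rfl))) (by
        have h' := BasedFunctor.preserves_isHomLift π (f ≫ eqToHom rfl)
          (Gerb.pullHom 𝒳 x (f ≫ eqToHom rfl))
        simpa using h')).trans rfl
  let c : Gerb.isoClPsh 𝒳 ⟶ M.obj :=
    { app := fun U => ↾Quot.lift (fun a => AlgSt.fibSec π a) (hwd U)
      naturality := fun U V f => by
        ext a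
        obtain ⟨a⟩ := a
        exact hnat f.unop a }
  refine ⟨c, fun x => rfl, ⟨fun {U} s => ?_⟩, ⟨fun {U} a b hab => ?_⟩⟩
  · obtain ⟨R, hR, hR'⟩ := hπ.1 ⟨U, s⟩
    refine GrothendieckTopology.superset_covering _ (fun V f hf => ?_) hR
    obtain ⟨x, g, hg⟩ := hR' f hf
    have hx : 𝒳.p.obj x = V :=
      (π.w_obj x).symm.trans (@IsHomLift.domain_eq _ _ _ _ (AlgSt.ofSp M).p _ _ _ _ f g hg)
    refine ⟨Quot.mk _ (⟨x, hx⟩ : 𝒳.p.Fiber V), ?_⟩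
    change AlgSt.fibSec π ⟨x, hx⟩ = _
    refine (fibSec_lift π f ⟨x, hx⟩ ⟨U, s⟩ rfl g hg).trans ?_
    simp
  · obtain ⟨a⟩ := a
    obtain ⟨b⟩ := b
    obtain ⟨U⟩ := U
    change AlgSt.fibSec π a = AlgSt.fibSec π b at hab
    obtain ⟨x, hx⟩ := a
    obtain ⟨y, hy⟩ := b
    dsimp only at hx hy hab ⊢
    subst hx
    unfold AlgSt.fibSec at hab
    let e : (π.obj x).base = (π.obj y).base := (π.w_obj x).trans (hy.symm.trans (π.w_obj y).symm)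
    have hsec : M.obj.map (eqToHom e).op (π.obj y).sec = (π.obj x).sec := by
      have h := congrArg (fun m => M.obj.map (eqToHom (π.w_obj x)).op m) hab
      exact (((map_sec _ _ (𝟙 _) (π.obj x).sec (by simp)).trans (by simp)).symm.trans
        (h.trans (map_sec _ _ (eqToHom e) (π.obj y).sec (by simp)))).symm
    let bm : π.obj x ⟶ π.obj y := ⟨eqToHom e, hsec⟩
    have hbm : (AlgSt.ofSp M).p.IsHomLift (𝟙 (𝒳.p.obj x)) bm :=
      IsHomLift.of_fac' _ _ _ (π.w_obj x) ((π.w_obj y).trans hy) (by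
        change eqToHom e = _
        simp)
    obtain ⟨R, hR, hR'⟩ := hπ.2 x y bm hbm
    refine GrothendieckTopology.superset_covering _ (fun V f hf => ?_) hR
    obtain ⟨x₀, φ, ψ, hφ, hψ, -⟩ := hR' f hf
    have hx₀ : 𝒳.p.obj x₀ = V := @IsHomLift.domain_eq _ _ _ _ 𝒳.p _ _ _ _ f φ hφ
    obtain ⟨χ, hχ, -⟩ := Gerb.exists_hom_pull 𝒳 x (f ≫ eqToHom (rfl : 𝒳.p.obj x = 𝒳.p.obj x).symm) φ
      (by simpa using hφ)
    obtain ⟨χ', hχ', -⟩ := Gerb.exists_hom_pull 𝒳 y (f ≫ eqToHom hy.symm) ψ (by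
      refine IsHomLift.of_fac' _ _ _ hx₀ rfl ?_
      rw [@IsHomLift.fac' _ _ _ _ 𝒳.p _ _ _ _ f ψ hψ]
      simp)
    change Quot.mk _ (Gerb.pullFib 𝒳 f ⟨x, rfl⟩) = Quot.mk _ (Gerb.pullFib 𝒳 f ⟨y, hy⟩)
    exact (Quot.sound (⟨⟨χ, hχ⟩⟩ : Gerb.IsoRel 𝒳 V ⟨x₀, hx₀⟩ (Gerb.pullFib 𝒳 f ⟨x, rfl⟩))).symm.trans
      (Quot.sound (⟨⟨χ', hχ'⟩⟩ : Gerb.IsoRel 𝒳 V ⟨x₀, hx₀⟩ (Gerb.pullFib 𝒳 f ⟨y, hy⟩)))

end

end Groth.Agent.GerbCoarse
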